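import Cfsg.Agent.H354.EPV.Psp
import Cfsg.Agent.H904.EPV.Engine

/-!
# S3499-V (helper354): the socle `PSp_2m(s)` in cross characteristic, dimension at least 13

`cross_psp (hg : TwoGen) : CrossPSp`, with the engine of helper904 plugged in.
-/

set_option autoImplicit false

namespace Cfsg.Agent.H354.EPV

open Subgroup Cfsg Cfsg.Agent.H284 Cfsg.Agent.H419.EP Cfsg.Agent.H912.Bd Cfsg.Agent.H59.EP Cfsg.Agent.H528.EP
open scoped MatrixGroups

theorem eThree : EThree := by
  intro Q _ _ A Γ ι _ _ F _ _ S P b L hA hL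
  exact absurd (Cfsg.Agent.H904.EPV.dim_lt b hA) (not_lt.2 hL)

theorem cross_psp (hg : TwoGen.{0}) : CrossPSp := cross_psp_of hg eThree

end Cfsg.Agent.H354.EPV
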