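import Mathlib

/-!
# Numbers for `PSp` in S3499-V (helper354)
-/

set_option autoImplicit false

namespace Cfsg.Agent.H354.EPV

theorem sq_le_two_pow {t : ℕ} (ht : 7 ≤ t) : 2 * t ^ 2 + t + 6 ≤ 2 ^ t := by
  induction t, ht using Nat.le_induction with
  | base => norm_num
  | succ t ht ih =>
    rw [pow_succ 2 t]
    nlinarith

theorem num_even {f m : ℕ} (hf : 1 ≤ f) (hm : 2 ≤ m) (hx : 7 ≤ f * m ∨ (f * m = 6 ∧ 2 ≤ f)) :
    f * (2 * m ^ 2 + m + 1) + 4 ≤ (2 ^ f) ^ m - 1 := by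
  rw [← pow_mul]
  rcases hx with hx | ⟨hx, hf2⟩
  · have h1 := sq_le_two_pow hx
    have h2 : f * (2 * m ^ 2 + m + 1) ≤ 2 * (f * m) ^ 2 + f * m + 1 := by
      obtain ⟨g, rfl⟩ : ∃ g, f = g + 1 := ⟨f - 1, by omega⟩
      nlinarith [Nat.zero_le (g * m ^ 2), Nat.zero_le (g ^ 2 * m ^ 2), Nat.mul_le_mul_left g (Nat.one_le_pow 2 m (by omega))]
    omega
  · have hm6 : m ≤ 3 := by
      by_contra h
      push Not at h
      have : 2 * 4 ≤ f * m := Nat.mul_le_mul hf2 h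
      omega
    rw [hx]
    interval_cases m
    · have : f = 3 := by omega
      subst this
      norm_num
    · have : f = 2 := by omega
      subst this
      norm_num

theorem two_pow_ge {c : ℕ} (hc : 8 ≤ c) : 2 * ((c + 1) * (4 * c + 8)) + 3 * 9 ≤ 3 * 2 ^ c := by
  induction c, hc using Nat.le_induction with
  | base => norm_num
  | succ c hc ih =>
    rw [pow_succ 2 c]
    nlinarith

theorem num_odd {q m : ℕ} (hq : 3 ≤ q) (hodd : Odd q) (hm : 2 ≤ m) (h1 : ¬ (q = 3 ∧ m = 2)) (h2 : ¬ (q = 3 ∧ m = 3))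
    (h3 : ¬ (q = 3 ∧ m = 4)) (h4 : ¬ (q = 5 ∧ m = 2)) (h5 : ¬ (q = 7 ∧ m = 2)) :
    ∃ L, q ^ (2 * m ^ 2 + m + 1) ≤ 2 ^ L ∧ L + 4 ≤ (q ^ m - 1) / 2 := by
  by_cases hX : q ^ m < 256
  · have hm6 : m < 6 := by
      by_contra h
      push Not at h
      have h7 : 3 ^ 6 ≤ q ^ m := (Nat.pow_le_pow_left hq 6).trans (Nat.pow_le_pow_right (by omega) h)
      norm_num at h7
      omega
    have hq16 : q < 16 := by
      by_contra h
      push Not at h
      have h7 : 16 ^ 2 ≤ q ^ m := (Nat.pow_le_pow_left h 2).trans (Nat.pow_le_pow_right (by omega) hm)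
      norm_num at h7
      omega
    refine ⟨(q ^ m - 1) / 2 - 4, ?_, ?_⟩
    all_goals
      interval_cases m <;> interval_cases q <;> first
        | omega
        | (exfalso; exact absurd hodd (by decide))
        | norm_num
  · push Not at hX
    set c := Nat.log 2 (q ^ m) with hc
    have hX0 : q ^ m ≠ 0 := by positivity
    have hc1 : 2 ^ c ≤ q ^ m := Nat.pow_log_le_self 2 hX0
    have hc2 : q ^ m < 2 ^ (c + 1) := Nat.lt_pow_succ_log_self (by norm_num) _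
    have hc8 : 8 ≤ c := by
      by_contra h
      push Not at h
      have h7 : 2 ^ (c + 1) ≤ 2 ^ 8 := Nat.pow_le_pow_right (by norm_num) (by omega)
      norm_num at h7
      omega
    have hmc : 3 * m ≤ 2 * c + 1 := by
      have h7 : 8 ^ m ≤ 9 ^ m := Nat.pow_le_pow_left (by norm_num) m
      have h8 : (3 ^ m) ^ 2 ≤ (q ^ m) ^ 2 := Nat.pow_le_pow_left (Nat.pow_le_pow_left hq m) 2
      have h9 : (q ^ m) ^ 2 < (2 ^ (c + 1)) ^ 2 := Nat.pow_lt_pow_left hc2 (by norm_num)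
      have h10 : 2 ^ (3 * m) < 2 ^ (2 * c + 2) := by
        calc 2 ^ (3 * m) = 8 ^ m := by rw [pow_mul]; norm_num
          _ ≤ 9 ^ m := h7
          _ = (3 ^ m) ^ 2 := by rw [← pow_mul, mul_comm, pow_mul]; norm_num
          _ < (2 ^ (c + 1)) ^ 2 := lt_of_le_of_lt h8 h9
          _ = 2 ^ (2 * c + 2) := by rw [← pow_mul]; congr 1; ring
      have h11 := (Nat.pow_lt_pow_iff_right (by norm_num : 1 < 2)).1 h10
      omega
    refine ⟨(c + 1) * (2 * m + 2), ?_, ?_⟩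
    · calc q ^ (2 * m ^ 2 + m + 1) ≤ q ^ (m * (2 * m + 2)) := Nat.pow_le_pow_right (by omega) (by nlinarith)
        _ = (q ^ m) ^ (2 * m + 2) := by rw [pow_mul]
        _ ≤ (2 ^ (c + 1)) ^ (2 * m + 2) := Nat.pow_le_pow_left hc2.le _
        _ = _ := by rw [← pow_mul]
    · have h7 := two_pow_ge hc8
      have h8 : 3 * ((c + 1) * (2 * m + 2)) ≤ (c + 1) * (4 * c + 8) := by
        calc 3 * ((c + 1) * (2 * m + 2)) = (c + 1) * (2 * (3 * m) + 6) := by ring
          _ ≤ (c + 1) * (4 * c + 8) := Nat.mul_le_mul_left _ (by omega)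
      have h9 : (2 ^ c - 1) / 2 ≤ (q ^ m - 1) / 2 := Nat.div_le_div_right (by omega)
      have h10 : 3 * (2 * ((c + 1) * (2 * m + 2) + 4) + 1) ≤ 3 * 2 ^ c := by omega
      have h11 : 2 * ((c + 1) * (2 * m + 2) + 4) + 1 ≤ 2 ^ c := Nat.le_of_mul_le_mul_left h10 (by norm_num)
      omega

end Cfsg.Agent.H354.EPV
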