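import Cfsg.Agent.H419.EP.Big
import Cfsg.Agent.H912.Bd2
import Cfsg.Agent.H95.StemCover

/-!
# S3499-V (helper354): degree bounds in the situation `Big`

* `Big.pr`, `Big.le_of_bd`: if `socle P ≃* T`, `T` has cyclic multiplier of order `c` prime to `r`, then
  `Bd F r m T → m ≤ n`.
* `Big.card_dvd_gl`: `|T|` divides `∏_{i < n} (q^n - q^i)`.
-/

set_option autoImplicit false

namespace Cfsg.Agent.H354.EPV

open Subgroup Cfsg Cfsg.Agent.H284 Cfsg.Agent.H419.EP Cfsg.Agent.H912.Bd
open scoped MatrixGroups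

set_option linter.unusedSectionVars false
set_option linter.unusedVariables false

variable {Q : Type} [Group Q] [Finite Q] {A : Subgroup Q} {Γ : Subgroup (MulAut Q)} {ι : Type} [Fintype ι]
    [DecidableEq ι] {F : Type} [Field F] [Fintype F] {S P : Subgroup (GL ι F)}

/-- reindexing -/
noncomputable def reix (ι : Type) [Fintype ι] [DecidableEq ι] (F : Type) [Field F] :
    GL ι F ≃* GL (Fin (Fintype.card ι)) F :=
  Units.mapEquiv (Matrix.reindexAlgEquiv F F (Fintype.equivFin ι)).toMulEquiv

theorem commutator_eq_top (hP : ⁅P, P⁆ = P) : commutator P = ⊤ := by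
  apply Subgroup.map_injective P.subtype_injective
  rw [commutator_def, Subgroup.map_commutator, ← MonoidHom.range_eq_map, P.range_subtype, hP]

theorem scal_central {x : P} (hx : x ∈ (Cfsg.Geo.scalars ι F).subgroupOf P) (y : P) : x * y = y * x := by
  rw [Subgroup.mem_subgroupOf, Cfsg.Geo.mem_scalars_iff] at hx
  obtain ⟨c, hc⟩ := hx
  apply Subtype.ext
  apply Units.ext
  rw [Subgroup.coe_mul, Subgroup.coe_mul, Units.val_mul, Units.val_mul, hc, Matrix.smul_mul, Matrix.mul_smul, one_mul,
    mul_one]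

/-- the order of the scalars divides the order of a cyclic multiplier -/
theorem card_scal_dvd (hP : ⁅P, P⁆ = P) {T : Type} [Group T] (e : socle P ≃* T) {c : ℕ}
    (hT : Cfsg.HasCyclicSchurMultiplier T c) : Nat.card ((Cfsg.Geo.scalars ι F).subgroupOf P) ∣ c := by
  have h1 : (e.toMonoidHom.comp (QuotientGroup.mk' ((Cfsg.Geo.scalars ι F).subgroupOf P))).ker =
      (Cfsg.Geo.scalars ι F).subgroupOf P := by
    ext x
    rw [MonoidHom.mem_ker]
    show e (QuotientGroup.mk' _ x) = 1 ↔ _
    rw [map_eq_one_iff _ e.injective, QuotientGroup.mk'_apply, QuotientGroup.eq_one_iff]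
  have h2 := Cfsg.Agent.H95.StemCover.card_ker_dvd_cyclic hT (commutator_eq_top hP)
    (e.toMonoidHom.comp (QuotientGroup.mk' ((Cfsg.Geo.scalars ι F).subgroupOf P)))
    (e.surjective.comp (QuotientGroup.mk'_surjective _)) (by
      rw [h1]
      intro x hx
      rw [Subgroup.mem_center_iff]
      intro y
      exact (scal_central hx y).symm)
  rwa [h1] at h2

theorem Big.pr (b : Big A Γ S P) {T : Type} [Group T] (e : socle P ≃* T) {r : ℕ}
    (hc : (Nat.card ((Cfsg.Geo.scalars ι F).subgroupOf P)).Coprime r) : PR F (Fintype.card ι) r T := by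
  have hk : ∀ x : P, e (QuotientGroup.mk' _ x) = 1 ↔ x ∈ (Cfsg.Geo.scalars ι F).subgroupOf P := by
    intro x
    rw [map_eq_one_iff _ e.injective, QuotientGroup.mk'_apply, QuotientGroup.eq_one_iff]
  refine ⟨P, inferInstance, e.toMonoidHom.comp (QuotientGroup.mk' _), (reix ι F).toMonoidHom.comp P.subtype,
    ?_, ?_, ?_, ?_⟩
  · exact e.surjective.comp (QuotientGroup.mk'_surjective _)
  · intro x hx y
    exact scal_central ((hk x).1 hx) y
  · have h1 : (e.toMonoidHom.comp (QuotientGroup.mk' ((Cfsg.Geo.scalars ι F).subgroupOf P))).ker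
        = (Cfsg.Geo.scalars ι F).subgroupOf P := by
      ext x
      exact hk x
    rw [h1]
    exact hc
  · intro x hx
    have h1 : (reix ι F) (x : GL ι F) = 1 := hx
    rw [map_eq_one_iff _ (reix ι F).injective] at h1
    have : x = 1 := Subtype.ext h1
    rw [this]
    exact one_mem _

theorem Big.le_of_bd (b : Big A Γ S P) {T : Type} [Group T] (e : socle P ≃* T) {c r m : ℕ}
    (hT : Cfsg.HasCyclicSchurMultiplier T c) (hc : c.Coprime r) (h : Bd F r m T) : m ≤ Fintype.card ι :=
  h _ (Big.pr b e (hc.coprime_dvd_left (card_scal_dvd b.core.perfect e hT)))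

/-- `|T|` divides `|GL_n(q)|`. -/
theorem Big.card_dvd_gl {T : Type} [Group T] (e : socle P ≃* T) :
    Nat.card T ∣ ∏ i : Fin (Fintype.card ι), (Fintype.card F ^ Fintype.card ι - Fintype.card F ^ (i : ℕ)) := by
  rw [← Matrix.card_GL_field (𝔽 := F) (Fintype.card ι), ← Nat.card_congr e.toEquiv]
  refine dvd_trans ?_ (dvd_trans (Subgroup.card_subgroup_dvd_card P) (dvd_of_eq
    (Nat.card_congr (reix ι F).toEquiv)))
  exact Subgroup.card_quotient_dvd_card _

end Cfsg.Agent.H354.EPV
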