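import Cfsg.Agent.H175.BdSp
import Cfsg.Agent.H203.LSDef

/-!
# Representations of `Sp_6(3)` over `F_2` (helper354, S3499-V)

`twist`: a homomorphism `Sp_6(3) → GL_n(2)` with central kernel has `n ≥ 26` (the weights of a subgroup `3^3` of the
Siegel radical are closed under inversion, by the Frobenius twist; a Singer cycle gives `13 + 13` weights).
-/

set_option autoImplicit false

namespace Cfsg.Agent.H354.EPV

open Matrix Cfsg.Agent.H912.Bd Cfsg.Agent.H175.BdSp

/-- the Frobenius twist of a vector -/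
theorem repK_sq {F : Type} [Field F] [Fintype F] (hF : Fintype.card F = 2) {n : ℕ} {L : Type} [Group L]
    (ρ : L →* Matrix.GeneralLinearGroup (Fin n) F) (g : L) (v : Fin n → AlgebraicClosure F) (i : Fin n) :
    repK ρ g (fun j => v j ^ 2) i = (repK ρ g v i) ^ 2 := by
  have h2 : CharP F 2 := by
    have h3 : (2 : F) = 0 := by
      have h4 := FiniteField.cast_card_eq_zero F
      rw [hF] at h4
      exact_mod_cast h4
    exact CharTwo.of_one_ne_zero_of_two_eq_zero one_ne_zero h3
  have h2' : CharP (AlgebraicClosure F) 2 :=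
    charP_of_injective_algebraMap (algebraMap F (AlgebraicClosure F)).injective 2
  have key : ∀ w : Fin n → AlgebraicClosure F, repK ρ g w i = ∑ j, algebraMap F (AlgebraicClosure F)
      ((ρ g : Matrix (Fin n) (Fin n) F) i j) * w j := by
    intro w
    show (Matrix.toLin' _ w) i = _
    rw [Matrix.toLin'_apply]
    rfl
  rw [key, key, sum_pow_char 2]
  refine Finset.sum_congr rfl fun j _ => ?_
  rw [mul_pow, ← map_pow]
  congr 2
  have h5 := FiniteField.pow_card (K := F) ((ρ g : Matrix (Fin n) (Fin n) F) i j)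
  rw [hF] at h5
  exact h5.symm

theorem twist {K : Type} [Field K] [Fintype K] (hK : Fintype.card K = 3) {F : Type} [Field F] [Fintype F]
    (hF : Fintype.card F = 2) {n : ℕ} (ρ : Matrix.symplecticGroup (Fin 3) K →* Matrix.GeneralLinearGroup (Fin n) F)
    (hρ : ρ.ker ≤ Subgroup.center _) : 26 ≤ n := by
  classical
  have h2 : CharP F 2 := by
    have h3 : (2 : F) = 0 := by
      have h4 := FiniteField.cast_card_eq_zero F
      rw [hF] at h4
      exact_mod_cast h4
    exact CharTwo.of_one_ne_zero_of_two_eq_zero one_ne_zero h3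
  have h2' : CharP (AlgebraicClosure F) 2 :=
    charP_of_injective_algebraMap (algebraMap F (AlgebraicClosure F)).injective 2
  have : Fact (Nat.Prime 3) := ⟨by norm_num⟩
  have hcK : CharP K 3 := by
    obtain ⟨p, hp⟩ := CharP.exists K
    obtain ⟨k, hp', hk⟩ := FiniteField.card K p
    rw [hK] at hk
    have h5 : p ∣ 3 := by
      rw [hk]
      exact dvd_pow_self p k.ne_zero
    have h6 : p = 3 := (Nat.prime_dvd_prime_iff_eq hp' (by norm_num)).1 h5
    exact h6 ▸ hp
  let L := FiniteField.Extension K 3 3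
  have hLfin : Finite L := inferInstance
  have hLcard : Nat.card L = 27 := by
    rw [FiniteField.natCard_extension, Nat.card_eq_fintype_card, hK]
    norm_num
  have hfr : Module.finrank K L = 3 := FiniteField.finrank_extension K 3 3
  have : FiniteDimensional K L := inferInstance
  have : Algebra.IsSeparable K L := inferInstance
  have hLchar : CharP L 3 := charP_of_injective_algebraMap (algebraMap K L).injective 3
  let b : Module.Basis (Fin 3) K L := Module.finBasisOfFinrankEq K L hfr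
  obtain ⟨x, hx⟩ := IsCyclic.exists_generator (α := Lˣ)
  have hxo : orderOf x = 26 := by
    rw [orderOf_eq_card_of_forall_mem_zpowers hx, Nat.card_units, hLcard]
  let M : L →ₐ[K] Matrix (Fin 3) (Fin 3) K := Algebra.leftMulMatrix b
  have hM : ∀ u : Lˣ, M ((u⁻¹ : Lˣ) : L) * ((M (u : L))ᵀ)ᵀ = 1 := by
    intro u
    rw [transpose_transpose, ← map_mul, Units.inv_mul, map_one]
  let D : Lˣ → Matrix.symplecticGroup (Fin 3) K := fun u => di _ _ (hM u)
  let e : L → Matrix.symplecticGroup (Fin 3) K := fun a => lo (gram b a) (gram_transpose b a)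
  have he_add : ∀ a a', e a * e a' = e (a + a') := by
    intro a a'
    rw [lo_mul]
    exact lo_congr (gram_add b a a').symm
  have he_zero : e 0 = 1 := by
    rw [← lo_zero (by simp : (0 : Matrix (Fin 3) (Fin 3) K)ᵀ = 0)]
    exact lo_congr (gram_zero b)
  have he_inj : ∀ a, e a ∈ Subgroup.center (Matrix.symplecticGroup (Fin 3) K) → a = 0 := fun a ha =>
    eq_zero_of_gram b (lo_center _ ha)
  have hDe : ∀ u a, D u * e a = e ((u : L) ^ 2 * a) * D u := by
    intro u a
    rw [di_lo]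
    congr 1
    apply lo_congr
    rw [transpose_transpose, mul_gram, gram_mul]
    congr 1
    ring
  have he_neg : ∀ a, (e a)⁻¹ = e (-a) := by
    intro a
    rw [inv_eq_iff_mul_eq_one, he_add, add_neg_cancel, he_zero]
  let E0 : Subgroup (Matrix.symplecticGroup (Fin 3) K) :=
    { carrier := Set.range e
      one_mem' := ⟨0, he_zero⟩
      mul_mem' := by
        rintro _ _ ⟨a, rfl⟩ ⟨a', rfl⟩
        exact ⟨_, (he_add a a').symm⟩
      inv_mem' := by
        rintro _ ⟨a, rfl⟩
        exact ⟨_, (he_neg a).symm⟩ }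
  have hmem0 : ∀ a, e a ∈ E0 := fun a => ⟨a, rfl⟩
  have hDpow : ∀ (i : ℕ) (a : L), D x ^ i * e a = e (((x : L) ^ (2 * i)) * a) * D x ^ i := by
    intro i a
    induction i with
    | zero => simp
    | succ i ih =>
      rw [pow_succ', mul_assoc, ih, ← mul_assoc, hDe, mul_assoc]
      congr 2
      ring
  have hpow : ∀ (n : ℕ) (a : L), e a ^ n = e ((n : L) * a) := by
    intro n a
    induction n with
    | zero => rw [pow_zero, Nat.cast_zero, zero_mul, he_zero]
    | succ n ih => rw [pow_succ, ih, he_add]; congr 1; push_cast; ring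
  have h3L : (3 : L) = 0 := by exact_mod_cast CharP.cast_eq_zero L 3
  -- a weight
  have hN : ((3 : ℕ) : AlgebraicClosure F) ≠ 0 := by
    intro h0
    have h1 := (CharP.cast_eq_zero_iff (AlgebraicClosure F) 2 3).1 h0
    norm_num at h1
  have hck : repK ρ (e 1) ≠ 1 := by
    intro h0
    have h1 : e 1 ∈ ρ.ker := eq_one_of_repK h0
    exact one_ne_zero (he_inj 1 (hρ h1))
  obtain ⟨χ, hχ, hχc⟩ := exists_wt (repK ρ) (A := E0) (by
    rintro _ ⟨a, rfl⟩ _ ⟨a', rfl⟩
    rw [he_add, he_add, add_comm]) hN (by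
    rintro _ ⟨a, rfl⟩
    rw [hpow, Nat.cast_ofNat, h3L, zero_mul, he_zero]) (c := ⟨e 1, hmem0 1⟩) hck
  let X : L → AlgebraicClosure F := fun a => χ ⟨e a, hmem0 a⟩
  have hX1 : X 1 ≠ 1 := hχc
  have hXadd : ∀ a a', X (a + a') = X a * X a' := by
    intro a a'
    have h1 := wt_mul (repK ρ) hχ ⟨e a, hmem0 a⟩ ⟨e a', hmem0 a'⟩
    have h3 : (⟨e a, hmem0 a⟩ * ⟨e a', hmem0 a'⟩ : E0) = ⟨e (a + a'), hmem0 _⟩ := Subtype.ext (he_add a a')
    rw [h3] at h1
    exact h1
  have hX0 : X 0 = 1 := by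
    have h1 := wt_one (repK ρ) hχ
    have h3 : (1 : E0) = ⟨e 0, hmem0 0⟩ := Subtype.ext he_zero.symm
    rw [h3] at h1
    exact h1
  have hX3 : ∀ a, X a ^ 3 = 1 := by
    intro a
    have h1 : a + a + a = 0 := by linear_combination a * h3L
    rw [← hX0, ← h1, hXadd, hXadd]
    ring
  obtain ⟨v, hv, hv0⟩ := Submodule.exists_mem_ne_zero_of_ne_bot hχ
  rw [mem_wt] at hv
  have hv' : ∀ a, repK ρ (e a) v = X a • v := fun a => hv ⟨e a, hmem0 a⟩
  -- translates
  let y : L := ((x⁻¹ : Lˣ) : L)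
  have hxy : (x : L) * y = 1 := Units.mul_inv x
  let w : ℕ → (Fin n → AlgebraicClosure F) := fun i => repK ρ (D x ^ i) v
  have hw : ∀ i a, repK ρ (e a) (w i) = X (y ^ (2 * i) * a) • w i := by
    intro i a
    have h1 : e a * D x ^ i = D x ^ i * e (y ^ (2 * i) * a) := by
      rw [hDpow, ← mul_assoc, ← mul_pow, hxy, one_pow, one_mul]
    show (repK ρ (e a) * repK ρ (D x ^ i)) v = _
    rw [← map_mul, h1, map_mul, Module.End.mul_apply, hv', map_smul]
  have hw0 : ∀ i, w i ≠ 0 := by
    intro i h0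
    have h1 : (repK ρ ((D x ^ i)⁻¹) * repK ρ (D x ^ i)) v = 0 := by
      rw [Module.End.mul_apply]
      have : repK ρ (D x ^ i) v = 0 := h0
      rw [this, map_zero]
    rw [← map_mul, inv_mul_cancel, map_one, Module.End.one_apply] at h1
    exact hv0 h1
  -- the vectors
  let u : Fin 13 × Bool → (Fin n → AlgebraicClosure F) := fun p => if p.2 then (fun j => w p.1 j ^ 2) else w p.1
  let l : Fin 13 × Bool → L → AlgebraicClosure F := fun p a =>
    if p.2 then X (y ^ (2 * (p.1 : ℕ)) * a) ^ 2 else X (y ^ (2 * (p.1 : ℕ)) * a)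
  have hu0 : ∀ p, u p ≠ 0 := by
    rintro ⟨i, c⟩
    cases c
    · exact hw0 i
    · intro h0
      apply hw0 i
      funext j
      have h1 : w i j ^ 2 = 0 := congrFun h0 j
      exact pow_eq_zero_iff two_ne_zero |>.1 h1
  have hu : ∀ p a, repK ρ (e a) (u p) = l p a • u p := by
    rintro ⟨i, c⟩ a
    cases c
    · exact hw i a
    · funext j
      show repK ρ (e a) (fun j => w i j ^ 2) j = X (y ^ (2 * (i : ℕ)) * a) ^ 2 * w i j ^ 2
      rw [repK_sq hF, hw]
      show (X (y ^ (2 * (i : ℕ)) * a) * w i j) ^ 2 = _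
      ring
  -- the elements `y ^ (2 i) ± y ^ (2 j)`
  have hyu : ∀ k : ℕ, y ^ k = (((x⁻¹) ^ k : Lˣ) : L) := fun k => by rw [Units.val_pow_eq_pow_val]
  have hne : ∀ i j : ℕ, i < 13 → j < 13 → i ≠ j → y ^ (2 * i) - y ^ (2 * j) ≠ 0 := by
    intro i j hi hj hij h0
    rw [sub_eq_zero, hyu, hyu] at h0
    have h1 := Units.ext h0
    rw [pow_eq_pow_iff_modEq, orderOf_inv, hxo] at h1
    have h5 : (2 * i) % 26 = (2 * j) % 26 := h1
    omega
  have hx13 : (x : L) ^ 13 = -1 := by
    have h1 : ((x : L) ^ 13) ^ 2 = 1 := by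
      rw [← pow_mul, ← Units.val_pow_eq_pow_val, show 13 * 2 = orderOf x by rw [hxo], pow_orderOf_eq_one, Units.val_one]
    have h1' : ((x : L) ^ 13 - 1) * ((x : L) ^ 13 + 1) = 0 := by linear_combination h1
    rcases mul_eq_zero.1 h1' with h5 | h5
    · exfalso
      rw [sub_eq_zero] at h5
      have h6 : x ^ 13 = 1 := Units.ext (by rw [Units.val_pow_eq_pow_val, h5, Units.val_one])
      have h7 := orderOf_dvd_of_pow_eq_one h6
      rw [hxo] at h7
      norm_num at h7
    · exact eq_neg_of_add_eq_zero_left h5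
  have hneg : ∀ i j : ℕ, y ^ (2 * i) + y ^ (2 * j) ≠ 0 := by
    intro i j h0
    have hy13 : y ^ 13 = -1 := by
      have h1 : (x : L) ^ 13 * y ^ 13 = 1 := by rw [← mul_pow, hxy, one_pow]
      rw [hx13] at h1
      linear_combination -h1
    have h1 : y ^ (2 * i) = y ^ (2 * j + 13) := by
      rw [pow_add, hy13]
      linear_combination h0
    rw [hyu, hyu] at h1
    have h5 := Units.ext h1
    rw [pow_eq_pow_iff_modEq, orderOf_inv, hxo] at h5
    have h6 : (2 * i) % 26 = (2 * j + 13) % 26 := h5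
    omega
  have hsurj : ∀ c : L, c ≠ 0 → ¬ ∀ a, X (c * a) = 1 := by
    intro c hc h0
    apply hX1
    have := h0 c⁻¹
    rwa [mul_inv_cancel₀ hc] at this
  have hXi : ∀ a, X (-a) * X a = 1 := by
    intro a
    rw [← hXadd, neg_add_cancel, hX0]
  have hXne : ∀ a, X a ≠ 0 := by
    intro a h0
    have := hXi a
    rw [h0, mul_zero] at this
    exact zero_ne_one this
  have hinj : Function.Injective l := by
    rintro ⟨i, c⟩ ⟨j, d⟩ hij
    have hij' : ∀ a, l (i, c) a = l (j, d) a := fun a => congrFun hij a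
    cases c <;> cases d
    · by_cases h5 : i = j
      · rw [h5]
      · exfalso
        refine hsurj _ (hne i j i.2 j.2 fun h => h5 (Fin.ext h)) ?_
        intro a
        have h6 : X (y ^ (2 * (i : ℕ)) * a) = X (y ^ (2 * (j : ℕ)) * a) := hij' a
        have h7 : (y ^ (2 * (i : ℕ)) - y ^ (2 * (j : ℕ))) * a = -(y ^ (2 * (j : ℕ)) * a) + y ^ (2 * (i : ℕ)) * a := by ring
        rw [h7, hXadd, h6, hXi]
    · exfalso
      refine hsurj _ (hneg i j) ?_
      intro a
      have h6 : X (y ^ (2 * (i : ℕ)) * a) = X (y ^ (2 * (j : ℕ)) * a) ^ 2 := hij' a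
      rw [add_mul, hXadd, h6, ← pow_succ, hX3]
    · exfalso
      refine hsurj _ (hneg i j) ?_
      intro a
      have h6 : X (y ^ (2 * (i : ℕ)) * a) ^ 2 = X (y ^ (2 * (j : ℕ)) * a) := hij' a
      rw [add_mul, hXadd, ← h6, ← pow_succ', hX3]
    · by_cases h5 : i = j
      · rw [h5]
      · exfalso
        refine hsurj _ (hne i j i.2 j.2 fun h => h5 (Fin.ext h)) ?_
        intro a
        have h6 : X (y ^ (2 * (i : ℕ)) * a) ^ 2 = X (y ^ (2 * (j : ℕ)) * a) ^ 2 := hij' a
        have h8 : X (y ^ (2 * (i : ℕ)) * a) = X (y ^ (2 * (j : ℕ)) * a) := by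
          have h9 := hX3 (y ^ (2 * (i : ℕ)) * a)
          have h10 := hX3 (y ^ (2 * (j : ℕ)) * a)
          have h11 : X (y ^ (2 * (i : ℕ)) * a) ^ 2 * X (y ^ (2 * (i : ℕ)) * a) =
              X (y ^ (2 * (i : ℕ)) * a) ^ 2 * X (y ^ (2 * (j : ℕ)) * a) := by
            rw [← pow_succ, h9, h6, ← pow_succ, h10]
          exact mul_left_cancel₀ (pow_ne_zero 2 (hXne _)) h11
        have h7 : (y ^ (2 * (i : ℕ)) - y ^ (2 * (j : ℕ))) * a = -(y ^ (2 * (j : ℕ)) * a) + y ^ (2 * (i : ℕ)) * a := by ring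
        rw [h7, hXadd, h8, hXi]
  have hfin := Cfsg.Agent.H203.LS.card_le_of_weights (fun a : L => repK ρ (e a)) u l hu0 hu hinj
  rw [Module.finrank_fintype_fun_eq_card, Fintype.card_fin, Nat.card_eq_fintype_card, Fintype.card_prod,
    Fintype.card_fin, Fintype.card_bool] at hfin
  omega

end Cfsg.Agent.H354.EPV
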