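import Cfsg.Agent.H354.EPV.Pr
import Cfsg.Agent.H354.EPV.Tw
import Cfsg.Agent.H354.EPV.Num
import Cfsg.Agent.H528.EP.UB3
import Cfsg.Agent.S0245
import Cfsg.Agent.S0246
import Cfsg.Agent.S0270
import Cfsg.Agent.S0814
import Cfsg.Agent.S2092

/-!
# S3499-V (helper354): the socle `PSp_2m(s)` in cross characteristic, dimension at least 13

`cross_psp_of (hg : TwoGen) (E3 : EThree) : CrossPSp`.
-/

set_option autoImplicit false

namespace Cfsg.Agent.H354.EPV

open Subgroup Cfsg Cfsg.Agent.H284 Cfsg.Agent.H419.EP Cfsg.Agent.H912.Bd Cfsg.Agent.H59.EP Cfsg.Agent.H528.EP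
open scoped MatrixGroups

/-- the engine E3 of helper904 -/
def EThree : Prop := ∀ {Q : Type} [Group Q] [Finite Q] {A : Subgroup Q} {Γ : Subgroup (MulAut Q)} {ι : Type} [Fintype ι]
    [DecidableEq ι] {F : Type} [Field F] [Fintype F] {S P : Subgroup (GL ι F)}, Big A Γ S P → ∀ L : ℕ,
    Nat.card A ≤ 2 ^ L → L + 4 ≤ Fintype.card ι → False

section order

variable {K : Type} [Field K] [Fintype K]

theorem card_psp {m q : ℕ} (hF : Fintype.card K = q) (hm : 1 ≤ m) :
    Nat.gcd 2 (q - 1) * Nat.card (Cfsg.PSp m K) = q ^ (m ^ 2) * ∏ i ∈ Finset.range m, (q ^ (2 * (i + 1)) - 1) := by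
  have h1 := S0245.result (F := K) hF m
  have h2 := S0246.result (F := K) hF m hm
  have h3 := Subgroup.card_eq_card_quotient_mul_card_subgroup
    (Subgroup.center (Matrix.symplecticGroup (Fin m) K))
  rw [h1, h2] at h3
  rw [mul_comm]
  exact h3.symm

/-- `|Aut PSp_2m(q)|` -/
theorem card_aut {p f m : ℕ} (hp : p.Prime) (hf : 1 ≤ f) (hK : Fintype.card K = p ^ f) (hm : 2 ≤ m)
    (h : m = 2 → 3 ≤ p ^ f) : Nat.card (MulAut (Cfsg.PSp m K)) =
      (if m = 2 ∧ p = 2 then 2 else 1) * f *
        ((p ^ f) ^ (m ^ 2) * ∏ i ∈ Finset.range m, ((p ^ f) ^ (2 * (i + 1)) - 1)) := by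
  have : Fact p.Prime := ⟨hp⟩
  rw [Cfsg.Agent.S0814.result p f hf hK m hm h, ← card_psp hK (show 1 ≤ m by omega)]
  ring

theorem two_mul_le_two_pow (f : ℕ) (hf : 1 ≤ f) : 2 * f ≤ 2 ^ f := by
  induction f, hf using Nat.le_induction with
  | base => norm_num
  | succ n hn ih =>
    rw [pow_succ]
    omega

theorem card_aut_le {p f m : ℕ} (hp : p.Prime) (hf : 1 ≤ f) (hK : Fintype.card K = p ^ f) (hm : 2 ≤ m)
    (h : m = 2 → 3 ≤ p ^ f) : Nat.card (MulAut (Cfsg.PSp m K)) ≤ (p ^ f) ^ (2 * m ^ 2 + m + 1) := by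
  rw [card_aut hp hf hK hm h]
  have h1 : ∀ k : ℕ, ∏ i ∈ Finset.range k, ((p ^ f) ^ (2 * (i + 1)) - 1) ≤ (p ^ f) ^ (k * (k + 1)) := by
    intro k
    induction k with
    | zero => simp
    | succ k ih =>
      rw [Finset.prod_range_succ]
      calc _ ≤ (p ^ f) ^ (k * (k + 1)) * (p ^ f) ^ (2 * (k + 1)) := Nat.mul_le_mul ih (Nat.sub_le _ _)
        _ = _ := by rw [← pow_add]; congr 1; ring
  have h2 : (if m = 2 ∧ p = 2 then 2 else 1) * f ≤ p ^ f := by
    have h3 : (if m = 2 ∧ p = 2 then 2 else 1) ≤ 2 := by split_ifs <;> norm_num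
    calc _ ≤ 2 * f := Nat.mul_le_mul_right _ h3
      _ ≤ 2 ^ f := two_mul_le_two_pow f hf
      _ ≤ p ^ f := Nat.pow_le_pow_left hp.two_le f
  calc _ ≤ p ^ f * ((p ^ f) ^ (m ^ 2) * (p ^ f) ^ (m * (m + 1))) :=
        Nat.mul_le_mul h2 (Nat.mul_le_mul_left _ (h1 m))
    _ = _ := by rw [← pow_add, ← pow_succ']; congr 1; ring

end order

section

variable {Q : Type} [Group Q] [Finite Q] {A : Subgroup Q} {Γ : Subgroup (MulAut Q)} {ι : Type} [Fintype ι]
    [DecidableEq ι] {F : Type} [Field F] [Fintype F] {S P : Subgroup (GL ι F)}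

theorem card_dvd_aut (b : Big A Γ S P) {L : Type} [Group L] (e : socle P ≃* L) :
    Nat.card A ∣ Nat.card (MulAut L) := by
  obtain ⟨f, hf⟩ := (b.hasSoc' e).exists_hom
  exact Subgroup.card_dvd_of_injective f hf

theorem no_ab (b : Big A Γ S P) : ∀ K : Subgroup Q, K ≤ A → (∀ a ∈ A, ∀ k ∈ K, a * k * a⁻¹ ∈ K) →
    (∀ a ∈ K, ∀ b ∈ K, a * b = b * a) → K = ⊥ := by
  intro K h1 h2 h3
  refine b.hasSoc.no_abelian b.core.simple ?_ h1 h2 h3
  intro hcomm
  exact b.core.nonabelian ⟨⟨hcomm⟩⟩

/-- the bound for `|Q|` from the order of `Aut L`, given by its factorisation -/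
theorem card_le_list (hg : TwoGen.{0}) (b : Big A Γ S P) {L : Type} [Group L] (e : socle P ≃* L)
    (l : List (ℕ × ℕ)) (h1 : ∀ x ∈ l, x.1.Prime ∧ 0 < x.2) (h2 : (l.map Prod.fst).Nodup)
    (hc : Nat.card (MulAut L) = (l.map fun x => x.1 ^ x.2).prod) (h60 : (l.map fun x => x.1 ^ x.2).prod < 60 ^ 60) :
    Nat.card Q ≤ ubQ (l.map fun x => x.1 ^ x.2).prod (l.map fun x => gal x.1 x.2).sum := by
  have hl := galSum_list l h1 h2
  refine EPT.card_le_gen b.simple b.ept hg (no_ab b) hl.2.1 ?_ h60 hl.1.le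
  rw [← hc]
  exact card_dvd_aut b e

theorem low (b : Big A Γ S P) {n : ℕ} (hn : n ≤ Fintype.card ι) {x : ℕ} (hx : x ≤ Fintype.card F) :
    x ^ (n * (n - 1) / 2) ≤ 8 * Nat.card Q := by
  have h2 : 2 ≤ Fintype.card F := b.two_le
  refine le_trans ?_ b.ord
  refine (Nat.pow_le_pow_left hx _).trans (Nat.pow_le_pow_right (by omega) (Nat.div_le_div_right ?_))
  exact Nat.mul_le_mul hn (by omega)

/-- over `F_2` the scalars are trivial -/
theorem scal_bot (hF : Fintype.card F = 2) : (Cfsg.Geo.scalars ι F).subgroupOf P = ⊥ := by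
  rw [Subgroup.eq_bot_iff_forall]
  intro x hx
  rw [Subgroup.mem_subgroupOf, Cfsg.Geo.mem_scalars_iff] at hx
  obtain ⟨c, hc⟩ := hx
  have hc1 : (c : F) = 1 := by
    have h1 := FiniteField.pow_card_sub_one_eq_one (c : F) c.ne_zero
    rw [hF] at h1
    simpa using h1
  apply Subtype.ext
  apply Units.ext
  rw [hc, hc1, one_smul]
  rfl

/-- `PSp_6(3)` over `F_2` -/
theorem twist_big {K : Type} [Field K] [Fintype K] (hK : Fintype.card K = 3) (hF : Fintype.card F = 2)
    (e : socle P ≃* Cfsg.PSp 3 K) : 26 ≤ Fintype.card ι := by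
  have hb := scal_bot (ι := ι) (P := P) hF
  have hbij : Function.Bijective (QuotientGroup.mk' ((Cfsg.Geo.scalars ι F).subgroupOf P)) := by
    refine ⟨?_, QuotientGroup.mk'_surjective _⟩
    rw [← MonoidHom.ker_eq_bot_iff, QuotientGroup.ker_mk', hb]
  let E : P ≃* socle P := MulEquiv.ofBijective _ hbij
  let ρ : Matrix.symplecticGroup (Fin 3) K →* Matrix.GeneralLinearGroup (Fin (Fintype.card ι)) F :=
    (reix ι F).toMonoidHom.comp (P.subtype.comp (E.symm.toMonoidHom.comp (e.symm.toMonoidHom.comp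
      (QuotientGroup.mk' (Subgroup.center (Matrix.symplecticGroup (Fin 3) K))))))
  refine twist hK hF ρ ?_
  intro x hx
  have h1 : reix ι F ((E.symm (e.symm (QuotientGroup.mk' (Subgroup.center (Matrix.symplecticGroup (Fin 3) K)) x)) : P) :
      GL ι F) = 1 := hx
  rw [map_eq_one_iff _ (reix ι F).injective] at h1
  have h2 : E.symm (e.symm (QuotientGroup.mk' (Subgroup.center (Matrix.symplecticGroup (Fin 3) K)) x)) = 1 :=
    Subtype.ext h1
  rw [MulEquiv.map_eq_one_iff, MulEquiv.map_eq_one_iff] at h2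
  exact (QuotientGroup.eq_one_iff x).1 h2

end

theorem cross_psp_of (hg : TwoGen.{0}) (E3 : EThree) : CrossPSp := by
  intro Q _ _ A Γ ι _ _ F _ _ S P b K _ _ m hm h3 hchar ⟨e⟩
  obtain ⟨p, hcK⟩ := CharP.exists K
  obtain ⟨k, hp, hK⟩ := FiniteField.card K p
  obtain ⟨f, hf, hkf⟩ : ∃ f : ℕ, 1 ≤ f ∧ (k : ℕ) = f := ⟨k, k.2, rfl⟩
  rw [hkf] at hK
  have hpf : Fact p.Prime := ⟨hp⟩
  rw [hK] at h3
  have hFp : ¬ CharP F p := by
    intro h
    apply hchar
    rw [ringChar.eq F p, ringChar.eq K p]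
  have hpF : (p : F) ≠ 0 := by
    intro h0
    apply hFp
    obtain ⟨r, hr⟩ := CharP.exists F
    have hr1 : r ≠ 1 := fun h => CharP.char_ne_one F r h
    have h4 : r ∣ p := (CharP.cast_eq_zero_iff F r p).1 h0
    have h5 : r = p := ((Nat.dvd_prime hp).1 h4).resolve_left hr1
    exact h5 ▸ hr
  have hq2 : 2 ≤ p ^ f := by
    have := hK ▸ Fintype.one_lt_card (α := K)
    omega
  -- the cardinality of `F`
  have hFc : ∀ x : ℕ, Fintype.card F = p ^ x → False := by
    intro x hx
    have h4 := FiniteField.cast_card_eq_zero F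
    rw [hx, Nat.cast_pow] at h4
    exact hpF (eq_zero_of_pow_eq_zero h4)
  have h13 := b.thirteen
  have hF2 := b.two_le
  have hA : Nat.card A ≤ (p ^ f) ^ (2 * m ^ 2 + m + 1) :=
    (Nat.le_of_dvd Nat.card_pos (card_dvd_aut b e)).trans (card_aut_le hp hf hK hm h3)
  have hcop : (Nat.gcd 2 (p ^ f - 1)).Coprime p := by
    refine (Nat.Coprime.symm ((Nat.Prime.coprime_iff_not_dvd hp).2 fun h => ?_))
    have h4 := (Nat.dvd_sub_iff_right (by omega : 1 ≤ p ^ f) (dvd_pow_self p (by omega))).1 (h.trans (Nat.gcd_dvd_right _ _))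
    exact hp.one_lt.ne' (Nat.dvd_one.1 h4)
  -- the numerical cases
  have key : ∀ (l : List (ℕ × ℕ)) (n x : ℕ), (∀ y ∈ l, y.1.Prime ∧ 0 < y.2) → (l.map Prod.fst).Nodup →
      (if m = 2 ∧ p = 2 then 2 else 1) * f *
        ((p ^ f) ^ (m ^ 2) * ∏ i ∈ Finset.range m, ((p ^ f) ^ (2 * (i + 1)) - 1)) = (l.map fun x => x.1 ^ x.2).prod →
      (l.map fun x => x.1 ^ x.2).prod < 60 ^ 60 → n ≤ Fintype.card ι → x ≤ Fintype.card F →
      8 * ubQ (l.map fun x => x.1 ^ x.2).prod (l.map fun x => gal x.1 x.2).sum < x ^ (n * (n - 1) / 2) → False := by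
    intro l n x h1 h2 h4 h5 hn hx hlt
    have h6 := card_le_list hg b e l h1 h2 (by rw [card_aut hp hf hK hm h3, h4]) h5
    have h7 := low b hn hx
    omega
  by_cases h32 : m = 3 ∧ p ^ f = 2
  · -- `Sp_6(2)`
    obtain ⟨rfl, h2⟩ := h32
    have hp2 : p = 2 := by
      have := (Nat.dvd_prime Nat.prime_two).1 (h2 ▸ dvd_pow_self p (by omega))
      rcases this with h | h
      · exact absurd h hp.one_lt.ne'
      · exact h
    subst hp2
    have hf1 : f = 1 := by
      have : 2 ^ f = 2 ^ 1 := by rw [h2]; rfl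
      exact Nat.pow_right_injective le_rfl this
    subst hf1
    have hF3 : 3 ≤ Fintype.card F := by
      by_contra h
      exact hFc 1 (by omega)
    exact key [(2, 9), (3, 4), (5, 1), (7, 1)] 13 3 (by decide +kernel) (by decide +kernel) (by decide +kernel)
      (by decide +kernel) h13 hF3 (by decide +kernel)
  have hM := Cfsg.Agent.S2092.result hK m hm h3 h32
  by_cases hp2 : p = 2
  · -- `q` even
    subst hp2
    have hn : (2 ^ f) ^ m - 1 ≤ Fintype.card ι :=
      Big.le_of_bd b e hM hcop (Cfsg.Agent.H175.BdSp.bd_psp_even (F := F) hK (show 1 ≤ m by omega)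
        (by exact_mod_cast hpF) (MulEquiv.refl _))
    have hF3 : 3 ≤ Fintype.card F := by
      by_contra h
      exact hFc 1 (by omega)
    by_cases hx : 7 ≤ f * m ∨ (f * m = 6 ∧ 2 ≤ f)
    · refine E3 b (f * (2 * m ^ 2 + m + 1)) (by rw [pow_mul]; exact hA) ?_
      exact (num_even hf hm hx).trans hn
    · push Not at hx
      obtain ⟨hx1, hx2⟩ := hx
      have hfm : f * m ≤ 6 := by omega
      have hf3 : f ≤ 3 := by nlinarith
      have hm6 : m ≤ 6 := by nlinarith
      have hc : (f = 1 ∧ m = 4) ∨ (f = 1 ∧ m = 5) ∨ (f = 1 ∧ m = 6) ∨ (f = 2 ∧ m = 2) := by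
        interval_cases f <;> interval_cases m <;> first
          | omega
          | (exfalso; exact h32 ⟨rfl, rfl⟩)
      rcases hc with ⟨rfl, rfl⟩ | ⟨rfl, rfl⟩ | ⟨rfl, rfl⟩ | ⟨rfl, rfl⟩
      · -- `Sp_8(2)`
        norm_num at hn
        have h16 : 5 ≤ Fintype.card F ∨ 16 ≤ Fintype.card ι := by
          by_contra hcon
          push Not at hcon
          have hF4 : Fintype.card F = 3 := by
            have : Fintype.card F ≠ 4 := fun h => hFc 2 h
            omega
          have hn15 : Fintype.card ι = 15 := by omega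
          have h4 := Big.card_dvd_gl (F := F) e
          have h5 : 17 ∣ Nat.card (Cfsg.PSp 4 K) := by
            have h6 := card_psp hK (show 1 ≤ 4 by norm_num)
            norm_num [Finset.prod_range_succ] at h6
            rw [h6]
            decide +kernel
          have h6 := h5.trans h4
          rw [hF4, hn15] at h6
          revert h6
          decide +kernel
        rcases h16 with h16 | h16
        · exact key [(2, 16), (3, 5), (5, 2), (7, 1), (17, 1)] 15 5 (by decide +kernel) (by decide +kernel)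
            (by decide +kernel) (by decide +kernel) hn h16 (by decide +kernel)
        · exact key [(2, 16), (3, 5), (5, 2), (7, 1), (17, 1)] 16 3 (by decide +kernel) (by decide +kernel)
            (by decide +kernel) (by decide +kernel) h16 hF3 (by decide +kernel)
      · norm_num at hn
        exact key [(2, 25), (3, 6), (5, 2), (7, 1), (11, 1), (17, 1), (31, 1)] 31 3 (by decide +kernel)
          (by decide +kernel) (by decide +kernel) (by decide +kernel) hn hF3 (by decide +kernel)
      · norm_num at hn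
        exact key [(2, 36), (3, 8), (5, 3), (7, 2), (11, 1), (13, 1), (17, 1), (31, 1)] 63 3 (by decide +kernel)
          (by decide +kernel) (by decide +kernel) (by decide +kernel) hn hF3 (by decide +kernel)
      · norm_num at hn
        exact key [(2, 10), (3, 2), (5, 2), (17, 1)] 15 3 (by decide +kernel) (by decide +kernel)
          (by decide +kernel) (by decide +kernel) hn hF3 (by decide +kernel)
  · -- `q` odd
    have hodd : Odd (p ^ f) := (hp.odd_of_ne_two hp2).pow
    have hq3 : 3 ≤ p ^ f := by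
      obtain ⟨a, ha⟩ := hodd
      omega
    have hn : ((p ^ f) ^ m - 1) / 2 ≤ Fintype.card ι :=
      Big.le_of_bd b e hM hcop (Cfsg.Agent.H175.BdSp.bd_psp (F := F) hp hK (show 1 ≤ m by omega) hpF (MulEquiv.refl _))
    have hprime : ∀ r : ℕ, r.Prime → p ^ f = r → p = r ∧ f = 1 := by
      intro r hr h
      have h4 : p ∣ r := h ▸ dvd_pow_self p (by omega)
      have h5 : p = r := (Nat.prime_dvd_prime_iff_eq hp hr).1 h4
      refine ⟨h5, ?_⟩
      rw [← h5] at h
      have : p ^ f = p ^ 1 := by rw [h, pow_one]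
      exact Nat.pow_right_injective hp.two_le this
    by_cases h1 : p ^ f = 3 ∧ m = 2
    · obtain ⟨h4, rfl⟩ := h1
      obtain ⟨rfl, rfl⟩ := hprime 3 (by norm_num) h4
      -- `PSp_4(3)`
      exact key [(2, 7), (3, 4), (5, 1)] 13 2 (by decide +kernel) (by decide +kernel)
        (by decide +kernel) (by decide +kernel) h13 hF2 (by decide +kernel)
    by_cases h2 : p ^ f = 3 ∧ m = 3
    · obtain ⟨h4, rfl⟩ := h2
      obtain ⟨rfl, rfl⟩ := hprime 3 (by norm_num) h4
      -- `PSp_6(3)`
      by_cases hFt : Fintype.card F = 2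
      · have h26 := twist_big hK hFt e
        exact key [(2, 10), (3, 9), (5, 1), (7, 1), (13, 1)] 26 2 (by decide +kernel) (by decide +kernel)
          (by decide +kernel) (by decide +kernel) h26 hF2 (by decide +kernel)
      · have hF4 : 4 ≤ Fintype.card F := by
          have : Fintype.card F ≠ 3 := fun h => hFc 1 h
          omega
        exact key [(2, 10), (3, 9), (5, 1), (7, 1), (13, 1)] 13 4 (by decide +kernel) (by decide +kernel)
          (by decide +kernel) (by decide +kernel) h13 hF4 (by decide +kernel)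
    by_cases h5 : p ^ f = 3 ∧ m = 4
    · obtain ⟨h4, rfl⟩ := h5
      obtain ⟨rfl, rfl⟩ := hprime 3 (by norm_num) h4
      norm_num at hn
      exact key [(2, 15), (3, 16), (5, 2), (7, 1), (13, 1), (41, 1)] 40 2 (by decide +kernel) (by decide +kernel)
        (by decide +kernel) (by decide +kernel) hn hF2 (by decide +kernel)
    by_cases h6 : p ^ f = 5 ∧ m = 2
    · obtain ⟨h4, rfl⟩ := h6
      obtain ⟨rfl, rfl⟩ := hprime 5 (by norm_num) h4
      -- `PSp_4(5)`
      by_cases hFt : Fintype.card F = 2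
      · have h16 : 16 ≤ Fintype.card ι := by
          by_contra hcon
          push Not at hcon
          have h7 := Big.card_dvd_gl (F := F) e
          have h8 : 5 ^ 4 ∣ Nat.card (Cfsg.PSp 2 K) := by
            have h9 := card_psp hK (show 1 ≤ 2 by norm_num)
            norm_num [Finset.prod_range_succ] at h9
            have h10 : Nat.card (Cfsg.PSp 2 K) = 4680000 := by omega
            rw [h10]
            decide +kernel
          have h9 := h8.trans h7
          have h10 : Fintype.card ι = 13 ∨ Fintype.card ι = 14 ∨ Fintype.card ι = 15 := by omega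
          rw [hFt] at h9
          rcases h10 with h10 | h10 | h10
          all_goals
            rw [h10] at h9
            revert h9
            decide +kernel
        exact key [(2, 7), (3, 2), (5, 4), (13, 1)] 16 2 (by decide +kernel) (by decide +kernel)
          (by decide +kernel) (by decide +kernel) h16 hF2 (by decide +kernel)
      · have hF3 : 3 ≤ Fintype.card F := by omega
        exact key [(2, 7), (3, 2), (5, 4), (13, 1)] 13 3 (by decide +kernel) (by decide +kernel)
          (by decide +kernel) (by decide +kernel) h13 hF3 (by decide +kernel)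
    by_cases h7 : p ^ f = 7 ∧ m = 2
    · obtain ⟨h4, rfl⟩ := h7
      obtain ⟨rfl, rfl⟩ := hprime 7 (by norm_num) h4
      norm_num at hn
      exact key [(2, 9), (3, 2), (5, 2), (7, 4)] 24 2 (by decide +kernel) (by decide +kernel)
        (by decide +kernel) (by decide +kernel) hn hF2 (by decide +kernel)
    obtain ⟨L, hL1, hL2⟩ := num_odd hq3 hodd hm h1 h2 h5 h6 h7
    exact E3 b L (hA.trans hL1) (hL2.trans hn)

end Cfsg.Agent.H354.EPV
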